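import Mathlib
import Cfsg.Prelude.Def_ChevStructure
import Cfsg.Prelude.Def_LieTwisted
import Cfsg.Agent.Lib.helper8.TD4.Defs
import Cfsg.Agent.Lib.helper8.TD4C3
import Cfsg.Agent.Lib.helper8.ChevBaseAll
import Cfsg.Agent.Lib.helper8.ChevReflAll
import Cfsg.Agent.Lib.helper8.ChevUnits
import Cfsg.Agent.Lib.helper8.ChevW0
import Cfsg.Agent.Lib.helper23.P4V.Defs

/-!
# Project TD4V = S2462 (helper23): a semisimple class of `³D₄(q)` whose square covers the group.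
Definitions.

`K` is the field of `q³` elements over which `G = twistedD4 K q ≤ GL chevD4.Idx K` is defined, `F` a field of
`q` elements with `j : F →+* K` (its image is the fixed field of `c ↦ c ^ q`).

Roots of `chevD4` (index: coefficients on `α₁ α₂ α₃ α₄`; `α₂ = β` the central node; `-r` has index `23 - r`):
`12: α₄`, `13: α₃`, `14: β`, `15: β+α₄`, `16: β+α₃`, `17: β+α₃+α₄`, `18: α₁`, `19: α₁+β`, `20: α₁+β+α₄`,
`21: α₁+β+α₃`, `22: α₁+β+α₃+α₄`, `23: ρ = α₁+2β+α₃+α₄`.  Triality `σ`: `18 → 13 → 12 → 18`,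
`19 → 16 → 15 → 19`, `20 → 21 → 17 → 20`, fixing `14 22 23`; the twisted Frobenius is
`x_s(t) ↦ x_{σ s}(η_s t^q)` with `η = -1` exactly on `19, 15, 21, 17` (and on `2, 4, 6, 8`).
Twisted roots (type `G₂`, `a` short, `b = β` long): `a = {18,13,12}`, `a+b = {19,16,15}`, `2a+b = {20,21,17}`,
`b = 14`, `3a+b = 22`, `ρ = 3a+2b = 23`.

Grading of the coordinates: `dg (h_i) = 0`, `dg (e_r) =` sum of the coefficients of `r` on `α₁ α₃ α₄`
(`= 0` exactly for `r = ±β`).  `J = {1}`: `PK = parabolicSubgroup K {1} = QK ⋊ LK` (S1048), `QK` = the product of the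
root groups of degree `> 0`, `LK = ⟨H, X₁₄, X₉⟩`, `QmK` = the product of the root groups of degree `< 0`.

* `X r t = x_r(t)`, `hh r t = h_r(t)`, `nb = n_β(1)`, `nJ = n_{α₁}(1) n_{α₃}(1) n_{α₄}(1)`;
* `XA XmA XAB XmAB X2AB Xm2AB hJ3` : products over a triality orbit with three independent parameters;
* `Xa Xma Xab X2ab` : the twisted root elements (`∈ G`), `hJ hB q t` (helper8) `= hJ3 t (t^q) (t^(q²))`;
* `Nm q t = t t^q t^(q²)`, `Tr3 q t = t + t^q + t^(q²)`;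
* `Q q = QK ⊓ G`, `Qm q = QmK ⊓ G`;
* `phiB : SL₂(K) →* GL` with `U(t) ↦ X 14 t`, `L(t) ↦ X 9 t` (helper8's `phi_beta`);
* `iota j q A t = phiB (A diag(1, (det A)⁻¹)) * hJ t` for `A ∈ GL₂(F)`, `t ∈ K`; on the pairs with
  `j (det A) = Nm q t` it is a homomorphism onto the Levi subgroup `LK ⊓ G` (rows I2):
  `iota !![1,c;0,1] 1 = X 14 (j c)`, `iota !![1,0;c,1] 1 = X 9 (j c)`, `iota !![1,0;0,c] t = hJ t`;
* `Pp j q` : the parabolic subgroup of `G` generated by these `iota A t` and `Q q`;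
* `x0 hB q t τ = hJ t * nb⁻¹ * X 14 τ` (helper8) is the element whose class square covers;
* `CjG q x y`, `CovG q x g` : conjugacy / product of two conjugates with conjugators in `G`.
-/

set_option autoImplicit false

namespace Cfsg.Agent.Lib.helper23.TD4V

open Cfsg.Lie Cfsg.Lie.ChevalleyDatum Matrix
open Cfsg.Agent.Lib.helper8 Cfsg.Agent.Lib.helper8.TD4
open Cfsg.Agent.Lib.helper23.P4V

universe u v

/-- the base package of helper8's toolkit for `chevD4` -/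
theorem hB : H8Base.{u} chevD4 := h8base_all chevD4 (by simp)

/-- the ambient general linear group -/
abbrev GG (K : Type u) [Field K] := GL chevD4.Idx K

/-- the degree of a coordinate: `0` for `h_i`, the sum of the coefficients on `α₁ α₃ α₄` for `e_r` -/
def dg : chevD4.Idx → ℤ
  | Sum.inl _ => 0
  | Sum.inr r => (chevD4.coroot.getD r.val #[]).getD 0 0 + (chevD4.coroot.getD r.val #[]).getD 2 0 +
      (chevD4.coroot.getD r.val #[]).getD 3 0

section Field

variable {K : Type u} [Field K]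

/-- the root element `x_r(t)` -/
def X (r : ℕ) (t : K) : GG K := h8xU chevD4 hB r t

/-- the torus element `h_r(t)` -/
def hh (r : ℕ) (t : K) : GG K := h8hU chevD4 hB r t

/-- `n_β = n_β(1)`, `β` the central node (index 14) -/
def nb : GG K := h8nU chevD4 hB 14 1

/-- `n_J = n_{α₁}(1) n_{α₃}(1) n_{α₄}(1)` -/
def nJ : GG K := h8nWU chevD4 hB [0, 2, 3]

/-- the longest element `(n_β n_J)³` -/
def n0 : GG K := h8nWU chevD4 hB [1, 0, 2, 3, 1, 0, 2, 3, 1, 0, 2, 3]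

/-- `x_{α₁}(t₁) x_{α₃}(t₂) x_{α₄}(t₃)` -/
def XA (t1 t2 t3 : K) : GG K := X 18 t1 * X 13 t2 * X 12 t3

/-- `x_{-α₁}(t₁) x_{-α₃}(t₂) x_{-α₄}(t₃)` -/
def XmA (t1 t2 t3 : K) : GG K := X 5 t1 * X 10 t2 * X 11 t3

/-- `x₁₉(t₁) x₁₆(t₂) x₁₅(t₃)` (the orbit `a + b`) -/
def XAB (t1 t2 t3 : K) : GG K := X 19 t1 * X 16 t2 * X 15 t3

/-- `x₄(t₁) x₇(t₂) x₈(t₃)` (the orbit `-(a + b)`) -/
def XmAB (t1 t2 t3 : K) : GG K := X 4 t1 * X 7 t2 * X 8 t3

/-- `x₂₀(t₁) x₂₁(t₂) x₁₇(t₃)` (the orbit `2a + b`) -/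
def X2AB (t1 t2 t3 : K) : GG K := X 20 t1 * X 21 t2 * X 17 t3

/-- `x₃(t₁) x₂(t₂) x₆(t₃)` (the orbit `-(2a + b)`) -/
def Xm2AB (t1 t2 t3 : K) : GG K := X 3 t1 * X 2 t2 * X 6 t3

/-- `h_{α₁}(t₁) h_{α₃}(t₂) h_{α₄}(t₃)` -/
def hJ3 (t1 t2 t3 : K) : GG K := hh 18 t1 * hh 13 t2 * hh 12 t3

/-- the twisted root element `X_a(t)` -/
def Xa (q : ℕ) (t : K) : GG K := XA t (t ^ q) (t ^ (q ^ 2))

/-- the twisted root element `X_{-a}(t)` -/
def Xma (q : ℕ) (t : K) : GG K := XmA t (t ^ q) (t ^ (q ^ 2))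

/-- the twisted root element `X_{a+b}(t)` -/
def Xab (q : ℕ) (t : K) : GG K := XAB t (-(t ^ q)) (-(t ^ (q ^ 2)))

/-- the twisted root element `X_{2a+b}(t)` -/
def X2ab (q : ℕ) (t : K) : GG K := X2AB t (t ^ q) (-(t ^ (q ^ 2)))

/-- the norm `K → F_q` -/
def Nm (q : ℕ) (t : K) : K := t * t ^ q * t ^ (q ^ 2)

/-- the trace `K → F_q` -/
def Tr3 (q : ℕ) (t : K) : K := t + t ^ q + t ^ (q ^ 2)

variable (K) in
/-- the unipotent radical `U_J` of `D₄(K)`: the root groups of degree `> 0` -/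
abbrev QK : Subgroup (GG K) := chevD4.unipotentRadical K ({1} : Set ℕ)

variable (K) in
/-- the Levi subgroup `⟨H, X₁₄, X₉⟩` of `D₄(K)` -/
abbrev LK : Subgroup (GG K) := chevD4.leviSubgroup K ({1} : Set ℕ)

variable (K) in
/-- the parabolic subgroup `⟨B, n_β⟩` of `D₄(K)` -/
abbrev PK : Subgroup (GG K) := chevD4.parabolicSubgroup K ({1} : Set ℕ)

variable (K) in
/-- the opposite radical of `D₄(K)`: the root groups of degree `< 0` -/
def QmK : Subgroup (GG K) :=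
  Subgroup.closure {g | ∃ (r : ℕ) (t : K), chevD4.IsNegRoot r ∧ ¬ chevD4.InRootSub ({1} : Set ℕ) r ∧
    (g : Matrix chevD4.Idx chevD4.Idx K) = chevD4.x K r t}

variable (K) in
/-- the group `³D₄(q)` -/
abbrev Gp (q : ℕ) : Subgroup (GG K) := twistedD4 K q

variable (K) in
/-- the unipotent radical of the parabolic subgroup of `³D₄(q)` -/
def Q (q : ℕ) : Subgroup (GG K) := QK K ⊓ twistedD4 K q

variable (K) in
/-- the opposite radical in `³D₄(q)` -/
def Qm (q : ℕ) : Subgroup (GG K) := QmK K ⊓ twistedD4 K q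

/-- the homomorphism `SL₂(K) → ⟨X₁₄, X₉⟩` (helper8's `phi_beta`) -/
noncomputable def phiB : Matrix.SpecialLinearGroup (Fin 2) K →* GG K :=
  Classical.choose (phi_beta (E := K) hB)

theorem phiB_U (t : K) : phiB (h8slU t) = X 14 t :=
  (Classical.choose_spec (phi_beta (E := K) hB)).1 t

theorem phiB_L (t : K) : phiB (h8slL t) = X 9 t :=
  (Classical.choose_spec (phi_beta (E := K) hB)).2.1 t

theorem phiB_W : phiB (h8slW : Matrix.SpecialLinearGroup (Fin 2) K) = nb :=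
  (Classical.choose_spec (phi_beta (E := K) hB)).2.2.1

theorem phiB_D (c : K) (hc : c ≠ 0) : phiB (h8slD c) = hh 14 c :=
  (Classical.choose_spec (phi_beta (E := K) hB)).2.2.2 c hc

/-- `y` is conjugate to `x` under `³D₄(q)` -/
def CjG (q : ℕ) (x y : GG K) : Prop := ∃ c ∈ twistedD4 K q, y = c * x * c⁻¹

/-- `g` is a product of two `³D₄(q)`-conjugates of `x` -/
def CovG (q : ℕ) (x g : GG K) : Prop :=
  ∃ c ∈ twistedD4 K q, ∃ d ∈ twistedD4 K q, g = (c * x * c⁻¹) * (d * x * d⁻¹)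

end Field

section Levi

variable {F K : Type u} [Field F] [Field K]

/-- `A * diag(1, (det A)⁻¹)` in `SL₂(F)` -/
noncomputable def sl2of (A : GL (Fin 2) F) : Matrix.SpecialLinearGroup (Fin 2) F :=
  ⟨(A : M2 F) * !![1, 0; 0, ((A : M2 F).det)⁻¹], by
    have h : (A : M2 F).det ≠ 0 := by
      have := A.isUnit.map (Matrix.detMonoidHom (n := Fin 2) (R := F))
      exact this.ne_zero
    rw [Matrix.det_mul, Matrix.det_fin_two_of, mul_zero, sub_zero, one_mul, mul_inv_cancel₀ h]⟩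

theorem sl2of_val (A : GL (Fin 2) F) :
    ((sl2of A : Matrix.SpecialLinearGroup (Fin 2) F) : M2 F) =
      (A : M2 F) * !![1, 0; 0, ((A : M2 F).det)⁻¹] := rfl

/-- an invertible `2 × 2` matrix as an element of `GL₂(F)` -/
noncomputable def mk2 (A : M2 F) (h : A.det ≠ 0) : GL (Fin 2) F :=
  Matrix.GeneralLinearGroup.mkOfDetNeZero A h

theorem mk2_val (A : M2 F) (h : A.det ≠ 0) : ((mk2 A h : GL (Fin 2) F) : M2 F) = A := rfl

/-- the Levi element with `GL₂`-part `A` and torus part `t` -/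
noncomputable def iota (j : F →+* K) (q : ℕ) (A : GL (Fin 2) F) (t : K) : GG K :=
  phiB (Matrix.SpecialLinearGroup.map j (sl2of A)) * hJ hB q t

/-- the parabolic subgroup `Q ⋊ L` of `³D₄(q)` -/
def Pp (j : F →+* K) (q : ℕ) : Subgroup (GG K) :=
  Subgroup.closure ({g | ∃ (A : GL (Fin 2) F) (t : K), t ≠ 0 ∧ j (A : M2 F).det = Nm q t ∧
    g = iota j q A t} ∪ (Q K q : Set (GG K)))

/-- the standing hypotheses: `|F| = q`, `|K| = q³`, `|E| = q⁶`, helper8's parameters `Par q ι t τ m` of the torus generator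
`x0 hB q t τ`, `τ ≠ 0`, and the elements `c, θ` of `F` with `j c = Nm q t`, `j θ = τ` (so `x0 = iota A₀ t`, `A₀ = !![0, -1; c, c θ]`
of determinant `c` and trace `c θ`) -/
structure Ctx {E : Type v} [Field E] [Fintype F] [Fintype K] [Fintype E] (j : F →+* K) (ι : K →+* E)
    (q : ℕ) (t τ : K) (m : E) (c θ : F) : Prop where
  hq : IsPrimePow q
  hF : Fintype.card F = q
  hK : Fintype.card K = q ^ 3
  hE : Fintype.card E = q ^ 6
  hP : Par q ι t τ m
  hτ : τ ≠ 0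
  hc : j c = Nm q t
  hθ : j θ = τ

end Levi

end Cfsg.Agent.Lib.helper23.TD4V
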